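import Mathlib

/-!
# Averaging crossed homomorphisms over a subgroup of odd index; explicit four-groups
-/

set_option autoImplicit false
set_option linter.style.haveILetI false

namespace Cfsg.Agent.Helper89.H1O

/-- a crossed homomorphism (values in a module of exponent two) that vanishes on a subgroup of
odd index is principal -/
theorem avg {G : Type*} [Group G] [Finite G] {V : Type*} [AddCommGroup V]
    (hV : ∀ v : V, v + v = 0) (ρ : G → V → V)
    (ρ_add : ∀ g v w, ρ g (v + w) = ρ g v + ρ g w)
    (f : G → V) (hf : ∀ g h, f (g * h) = f g + ρ g (f h))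
    (P : Subgroup G) (hodd : Odd P.index) (hP : ∀ p ∈ P, f p = 0) :
    ∃ w : V, ∀ g, f g = ρ g w - w := by
  classical
  letI : Fintype (G ⧸ P) := Fintype.ofFinite _
  have ρ_zero : ∀ g, ρ g 0 = 0 := by
    intro g
    have h := ρ_add g 0 0
    rw [add_zero] at h
    exact left_eq_add.mp h
  have ρ_sum : ∀ (g : G) (s : Finset (G ⧸ P)) (F : G ⧸ P → V),
      ρ g (∑ c ∈ s, F c) = ∑ c ∈ s, ρ g (F c) := by
    intro g s F
    induction s using Finset.induction_on with
    | empty => simp [ρ_zero]
    | insert a s ha ih => rw [Finset.sum_insert ha, Finset.sum_insert ha, ρ_add, ih]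
  have hcoset : ∀ x p, p ∈ P → f (x * p) = f x := by
    intro x p hp
    rw [hf, hP p hp, ρ_zero, add_zero]
  have hneg : ∀ v : V, -v = v := by
    intro v
    exact neg_eq_of_add_eq_zero_left (hV v)
  refine ⟨∑ c : G ⧸ P, f (Quotient.out c), ?_⟩
  intro h
  rw [ρ_sum]
  have h1 : ∀ c : G ⧸ P, ρ h (f (Quotient.out c)) = f (Quotient.out (h • c)) - f h := by
    intro c
    have h2 : f (h * Quotient.out c) = f h + ρ h (f (Quotient.out c)) := hf _ _
    have h3 : f (h * Quotient.out c) = f (Quotient.out (h • c)) := by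
      have h4 : ((Quotient.out (h • c) : G) : G ⧸ P) = ((h * Quotient.out c : G) : G ⧸ P) := by
        rw [QuotientGroup.out_eq']
        conv_lhs => rw [← QuotientGroup.out_eq' c]
        rfl
      have h5 := (QuotientGroup.eq).1 h4
      have h6 : h * Quotient.out c =
          Quotient.out (h • c) * ((Quotient.out (h • c))⁻¹ * (h * Quotient.out c)) := by group
      rw [h6, hcoset _ _ h5]
    rw [← h3, h2]
    abel
  rw [Finset.sum_congr rfl (fun c _ => h1 c), Finset.sum_sub_distrib]
  have h7 : ∑ c : G ⧸ P, f (Quotient.out (h • c)) = ∑ c : G ⧸ P, f (Quotient.out c) :=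
    Fintype.sum_equiv (MulAction.toPerm h) _ _ (fun c => rfl)
  rw [h7, Finset.sum_const, Finset.card_univ]
  have h8 : Fintype.card (G ⧸ P) = P.index := by
    rw [Subgroup.index_eq_card, Nat.card_eq_fintype_card]
  rw [h8]
  obtain ⟨k, hk⟩ := hodd
  have h9 : P.index • f h = f h := by
    rw [hk, add_smul, one_smul, mul_smul, two_smul, hV, zero_add]
  rw [h9]
  have : ∑ c : G ⧸ P, f (Quotient.out c) - f h - ∑ c : G ⧸ P, f (Quotient.out c) = -f h := by
    abel
  rw [this, hneg]

/-- an explicit four-group -/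
def kleinSub {G : Type*} [Group G] (a b : G) (ha : a * a = 1) (hb : b * b = 1)
    (hab : b * a = a * b) : Subgroup G where
  carrier := {x | x = 1 ∨ x = a ∨ x = b ∨ x = a * b}
  one_mem' := Or.inl rfl
  mul_mem' := by
    have ha' : ∀ x, a * (a * x) = x := fun x => by rw [← mul_assoc, ha, one_mul]
    have hb' : ∀ x, b * (b * x) = x := fun x => by rw [← mul_assoc, hb, one_mul]
    have hab' : ∀ x, b * (a * x) = a * (b * x) := fun x => by
      rw [← mul_assoc, hab, mul_assoc]
    rintro x y (rfl | rfl | rfl | rfl) (rfl | rfl | rfl | rfl) <;>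
      simp [mul_assoc, ha, hb, hab, ha', hab']
  inv_mem' := by
    have ha1 : a⁻¹ = a := inv_eq_of_mul_eq_one_right ha
    have hb1 : b⁻¹ = b := inv_eq_of_mul_eq_one_right hb
    rintro x (rfl | rfl | rfl | rfl)
    · simp
    · rw [ha1]; simp
    · rw [hb1]; simp
    · rw [mul_inv_rev, ha1, hb1, hab]; simp

theorem mem_kleinSub {G : Type*} [Group G] {a b : G} (ha : a * a = 1) (hb : b * b = 1)
    (hab : b * a = a * b) (x : G) :
    x ∈ kleinSub a b ha hb hab ↔ x = 1 ∨ x = a ∨ x = b ∨ x = a * b := Iff.rfl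

theorem card_kleinSub {G : Type*} [Group G] {a b : G} (ha : a * a = 1) (hb : b * b = 1)
    (hab : b * a = a * b) (ha1 : a ≠ 1) (hb1 : b ≠ 1) (hne : a ≠ b) :
    Nat.card (kleinSub a b ha hb hab) = 4 := by
  classical
  have hab1 : a * b ≠ 1 := by
    intro h
    have : a⁻¹ = b := inv_eq_of_mul_eq_one_right h
    rw [inv_eq_of_mul_eq_one_right ha] at this
    exact hne this
  have haba : a * b ≠ a := by
    intro h
    exact hb1 (mul_eq_left.mp h)
  have habb : a * b ≠ b := by
    intro h
    exact ha1 (mul_eq_right.mp h)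
  have hcoe : ((kleinSub a b ha hb hab : Subgroup G) : Set G) =
      ↑({1, a, b, a * b} : Finset G) := by
    ext x
    simp [kleinSub]
  have : Nat.card (kleinSub a b ha hb hab) = Set.ncard ((kleinSub a b ha hb hab : Subgroup G) : Set G) :=
    (Nat.card_coe_set_eq _)
  rw [this, hcoe, Set.ncard_coe_finset]
  rw [Finset.card_insert_of_notMem, Finset.card_insert_of_notMem, Finset.card_insert_of_notMem,
    Finset.card_singleton]
  · simp only [Finset.mem_singleton]
    exact fun h => habb h.symm
  · simp only [Finset.mem_insert, Finset.mem_singleton, not_or]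
    exact ⟨hne, fun h => haba h.symm⟩
  · simp only [Finset.mem_insert, Finset.mem_singleton, not_or]
    exact ⟨fun h => ha1 h.symm, fun h => hb1 h.symm, fun h => hab1 h.symm⟩

end Cfsg.Agent.Helper89.H1O
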