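import Mathlib
import Cfsg.Agent.Lib.Helper14.ReflGen

/-!
# First cohomology of orthogonal groups over `𝔽₂` on the natural module: basics

Isometries acting on vectors, orthogonal transvections `R a`, rotations `R a * R b`.
-/

set_option autoImplicit false

namespace Cfsg.Agent.Helper89.H1O

open Matrix QuadraticMap
open scoped commutatorElement

set_option linter.unusedSectionVars false

variable {ι : Type} [Fintype ι] [DecidableEq ι] {Q : QuadraticForm (ZMod 2) (ι → ZMod 2)}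

/-- the action of an isometry on vectors -/
def act (g : ↥(Cfsg.isometryGroup (ZMod 2) ⇑Q)) (v : ι → ZMod 2) : ι → ZMod 2 :=
  ((g : GL ι (ZMod 2)) : Matrix ι ι (ZMod 2)) *ᵥ v

theorem act_one (v : ι → ZMod 2) : act (1 : ↥(Cfsg.isometryGroup (ZMod 2) ⇑Q)) v = v := by
  simp [act]

theorem act_mul (g h : ↥(Cfsg.isometryGroup (ZMod 2) ⇑Q)) (v : ι → ZMod 2) :
    act (g * h) v = act g (act h v) := by
  simp [act, Matrix.mulVec_mulVec]

theorem act_add (g : ↥(Cfsg.isometryGroup (ZMod 2) ⇑Q)) (v w : ι → ZMod 2) :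
    act g (v + w) = act g v + act g w := Matrix.mulVec_add _ _ _

theorem act_sub (g : ↥(Cfsg.isometryGroup (ZMod 2) ⇑Q)) (v w : ι → ZMod 2) :
    act g (v - w) = act g v - act g w := Matrix.mulVec_sub _ _ _

theorem act_smul (g : ↥(Cfsg.isometryGroup (ZMod 2) ⇑Q)) (c : ZMod 2) (v : ι → ZMod 2) :
    act g (c • v) = c • act g v := Matrix.mulVec_smul _ _ _

theorem act_zero (g : ↥(Cfsg.isometryGroup (ZMod 2) ⇑Q)) : act g 0 = 0 := Matrix.mulVec_zero _

theorem act_inv_act (g : ↥(Cfsg.isometryGroup (ZMod 2) ⇑Q)) (v : ι → ZMod 2) :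
    act g⁻¹ (act g v) = v := by
  rw [← act_mul, inv_mul_cancel, act_one]

theorem act_act_inv (g : ↥(Cfsg.isometryGroup (ZMod 2) ⇑Q)) (v : ι → ZMod 2) :
    act g (act g⁻¹ v) = v := by
  rw [← act_mul, mul_inv_cancel, act_one]

theorem Q_act (g : ↥(Cfsg.isometryGroup (ZMod 2) ⇑Q)) (v : ι → ZMod 2) : Q (act g v) = Q v :=
  g.2 v v

theorem B_act (g : ↥(Cfsg.isometryGroup (ZMod 2) ⇑Q)) (v w : ι → ZMod 2) :
    polar (⇑Q) (act g v) (act g w) = polar (⇑Q) v w := by
  unfold polar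
  rw [← act_add, Q_act, Q_act, Q_act]

theorem ext_act {g h : ↥(Cfsg.isometryGroup (ZMod 2) ⇑Q)} (H : ∀ v, act g v = act h v) : g = h := by
  apply Subtype.ext
  apply Units.ext
  exact Cfsg.Agent.S0794.mat_ext_mulVec H

theorem act_injective (g : ↥(Cfsg.isometryGroup (ZMod 2) ⇑Q)) {v w : ι → ZMod 2}
    (h : act g v = act g w) : v = w := by
  rw [← act_inv_act g v, h, act_inv_act]

theorem z2_cases (a : ZMod 2) : a = 0 ∨ a = 1 := by
  revert a; decide

theorem B_self (x : ι → ZMod 2) : polar (⇑Q) x x = 0 := by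
  rw [polar_self]
  have : (2 : ZMod 2) = 0 := by decide
  simp [this]

theorem Q_add (x y : ι → ZMod 2) : Q (x + y) = Q x + Q y + polar (⇑Q) x y :=
  QuadraticMap.map_add Q x y

variable (Q)

/-- the orthogonal transvection with centre `a` (the identity if `Q a ≠ 1`) -/
noncomputable def R (a : ι → ZMod 2) : ↥(Cfsg.isometryGroup (ZMod 2) ⇑Q) :=
  if h : Q a = 1 then
    ⟨Cfsg.Agent.Helper14.ReflGen.reflGL Q a (by rw [h]; exact one_ne_zero), by
      intro x _
      exact Cfsg.Agent.Helper14.ReflGen.refl_isom Q a (by rw [h]; exact one_ne_zero) x⟩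
  else 1

variable {Q}

theorem R_act {a : ι → ZMod 2} (ha : Q a = 1) (v : ι → ZMod 2) :
    act (R Q a) v = v + polar (⇑Q) v a • a := by
  unfold R
  rw [dif_pos ha]
  change Cfsg.reflectionMatrix (⇑Q) a *ᵥ v = _
  rw [Cfsg.Agent.Helper13.reflectionMatrix_mulVec, ha, inv_one, one_mul, polar_comm]
  funext i
  simp only [Pi.add_apply, Pi.sub_apply, Pi.smul_apply, smul_eq_mul]
  grind

theorem rot_act {a b : ι → ZMod 2} (ha : Q a = 1) (hb : Q b = 1) (v : ι → ZMod 2) :
    act (R Q a * R Q b) v =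
      v + polar (⇑Q) v b • b + (polar (⇑Q) v a + polar (⇑Q) v b * polar (⇑Q) b a) • a := by
  rw [act_mul, R_act hb, R_act ha, polar_add_left, polar_smul_left, smul_eq_mul]

theorem R_mul_self {a : ι → ZMod 2} (ha : Q a = 1) : R Q a * R Q a = 1 := by
  apply ext_act
  intro v
  rw [rot_act ha ha, B_self, act_one]
  funext i
  simp only [Pi.add_apply, Pi.smul_apply, smul_eq_mul]
  grind

theorem R_inv {a : ι → ZMod 2} (ha : Q a = 1) : (R Q a)⁻¹ = R Q a :=
  inv_eq_of_mul_eq_one_right (R_mul_self ha)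

theorem conj_R (g : ↥(Cfsg.isometryGroup (ZMod 2) ⇑Q)) {a : ι → ZMod 2} (ha : Q a = 1) :
    g * R Q a * g⁻¹ = R Q (act g a) := by
  have hga : Q (act g a) = 1 := by rw [Q_act, ha]
  apply ext_act
  intro v
  rw [act_mul, act_mul, R_act ha, R_act hga, act_add, act_smul, act_act_inv]
  have : polar (⇑Q) (act g⁻¹ v) a = polar (⇑Q) v (act g a) := by
    rw [← B_act g, act_act_inv]
  rw [this]

/-- `ρ_{a,b} = ρ_{b,a+b}` for a hyperbolic pair of nonsingular vectors -/
theorem rot_shift {a b : ι → ZMod 2} (ha : Q a = 1) (hb : Q b = 1) (hab : polar (⇑Q) a b = 1) :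
    R Q a * R Q b = R Q b * R Q (a + b) := by
  have hc : Q (a + b) = 1 := by
    rw [Q_add, ha, hb, hab]; decide
  apply ext_act
  intro v
  rw [rot_act ha hb, rot_act hb hc, polar_add_right, polar_add_left, B_self, polar_comm (⇑Q) b a,
    hab]
  funext i
  simp only [Pi.add_apply, Pi.smul_apply, smul_eq_mul]
  grind

theorem R_comm_of_orth {a b : ι → ZMod 2} (ha : Q a = 1) (hb : Q b = 1)
    (hab : polar (⇑Q) a b = 0) : R Q a * R Q b = R Q b * R Q a := by
  apply ext_act
  intro v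
  rw [rot_act ha hb, rot_act hb ha, polar_comm (⇑Q) b a, hab]
  funext i
  simp only [Pi.add_apply, Pi.smul_apply, smul_eq_mul]
  grind

/-- a rotation is a commutator -/
theorem rot_eq_commutator {a b : ι → ZMod 2} (ha : Q a = 1) (hb : Q b = 1)
    (hab : polar (⇑Q) a b = 1) : R Q a * R Q b = ⁅R Q b, R Q a⁆ := by
  have hba : polar (⇑Q) b a = 1 := by rw [polar_comm, hab]
  rw [commutatorElement_def, R_inv ha, R_inv hb]
  have h1 : R Q b * R Q a = R Q a * R Q (a + b) := by
    rw [rot_shift hb ha hba, add_comm]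
  have h2 := rot_shift ha hb hab
  calc R Q a * R Q b = R Q b * R Q (a + b) := h2
    _ = R Q b * (R Q a * R Q a) * R Q (a + b) := by rw [R_mul_self ha, mul_one]
    _ = R Q b * R Q a * (R Q a * R Q (a + b)) := by group
    _ = R Q b * R Q a * (R Q b * R Q a) := by rw [h1]
    _ = R Q b * R Q a * R Q b * R Q a := by group

theorem rot_mem_Omega {a b : ι → ZMod 2} (ha : Q a = 1) (hb : Q b = 1)
    (hab : polar (⇑Q) a b = 1) : R Q a * R Q b ∈ Cfsg.Omega (ZMod 2) ⇑Q := by
  rw [rot_eq_commutator ha hb hab]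
  exact Subgroup.commutator_mem_commutator (Subgroup.mem_top _) (Subgroup.mem_top _)

end Cfsg.Agent.Helper89.H1O
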