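import Mathlib
import Cfsg.Agent.Lib.Helper89.H1O.Basic

/-!
# `Ω` is generated by rotations (over `𝔽₂`, when `O` is generated by transvections)
-/

set_option autoImplicit false

namespace Cfsg.Agent.Helper89.H1O

open Matrix QuadraticMap
open scoped commutatorElement

set_option linter.unusedSectionVars false

variable {ι : Type} [Fintype ι] [DecidableEq ι] (Q : QuadraticForm (ZMod 2) (ι → ZMod 2))

/-- the set of rotations `R a * R b`, `Q a = Q b = B(a,b) = 1` -/
def rotSet : Set ↥(Cfsg.isometryGroup (ZMod 2) ⇑Q) :=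
  {g | ∃ a b : ι → ZMod 2, Q a = 1 ∧ Q b = 1 ∧ polar (⇑Q) a b = 1 ∧ g = R Q a * R Q b}

/-- the subgroup generated by rotations -/
def E : Subgroup ↥(Cfsg.isometryGroup (ZMod 2) ⇑Q) := Subgroup.closure (rotSet Q)

theorem E_le_Omega : E Q ≤ Cfsg.Omega (ZMod 2) ⇑Q := by
  unfold E
  rw [Subgroup.closure_le]
  rintro g ⟨a, b, ha, hb, hab, rfl⟩
  exact rot_mem_Omega ha hb hab

theorem E_normal : (E Q).Normal := by
  constructor
  intro n hn g
  unfold E at hn ⊢
  induction hn using Subgroup.closure_induction with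
  | mem x hx =>
    obtain ⟨a, b, ha, hb, hab, rfl⟩ := hx
    apply Subgroup.subset_closure
    refine ⟨act g a, act g b, by rw [Q_act, ha], by rw [Q_act, hb], by rw [B_act, hab], ?_⟩
    rw [← conj_R g ha, ← conj_R g hb]
    group
  | one => simp
  | mul x y _ _ ihx ihy =>
    have : g * (x * y) * g⁻¹ = (g * x * g⁻¹) * (g * y * g⁻¹) := by group
    rw [this]
    exact Subgroup.mul_mem _ ihx ihy
  | inv x _ ih =>
    have : g * x⁻¹ * g⁻¹ = (g * x * g⁻¹)⁻¹ := by group
    rw [this]
    exact Subgroup.inv_mem _ ih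

/-- the generating set of transvections -/
def reflSet : Set ↥(Cfsg.isometryGroup (ZMod 2) ⇑Q) :=
  {g | ∃ v : ι → ZMod 2, Q v ≠ 0 ∧
    ((g : GL ι (ZMod 2)) : Matrix ι ι (ZMod 2)) = Cfsg.reflectionMatrix ⇑Q v}

theorem reflSet_eq {g : ↥(Cfsg.isometryGroup (ZMod 2) ⇑Q)} (hg : g ∈ reflSet Q) :
    ∃ a : ι → ZMod 2, Q a = 1 ∧ g = R Q a := by
  obtain ⟨v, hv, hgv⟩ := hg
  have hv1 : Q v = 1 := by
    rcases z2_cases (Q v) with h | h
    · exact absurd h hv
    · exact h
  refine ⟨v, hv1, ?_⟩
  apply Subtype.ext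
  apply Units.ext
  rw [hgv]
  unfold R
  rw [dif_pos hv1]
  rfl

theorem closure_reflSet (hQ : (QuadraticMap.polarBilin Q).Nondegenerate)
    (hcard : Fintype.card ι ≠ 4) : Subgroup.closure (reflSet Q) = ⊤ :=
  Cfsg.Agent.Helper14.ReflGen.isometryGroup_closure_refl Q hQ (Or.inr hcard)

theorem Omega_le_E (hQ : (QuadraticMap.polarBilin Q).Nondegenerate)
    (hcard : Fintype.card ι ≠ 4) : Cfsg.Omega (ZMod 2) ⇑Q ≤ E Q := by
  have hn := E_normal Q
  have key : ∀ x y : ↥(Cfsg.isometryGroup (ZMod 2) ⇑Q),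
      Commute (QuotientGroup.mk' (E Q) x) (QuotientGroup.mk' (E Q) y) := by
    intro x y
    have hx : x ∈ Subgroup.closure (reflSet Q) := by rw [closure_reflSet Q hQ hcard]; trivial
    have hy : y ∈ Subgroup.closure (reflSet Q) := by rw [closure_reflSet Q hQ hcard]; trivial
    induction hx, hy using Subgroup.closure_induction₂ with
    | mem x y hx hy =>
      obtain ⟨a, ha, rfl⟩ := reflSet_eq Q hx
      obtain ⟨b, hb, rfl⟩ := reflSet_eq Q hy
      rcases z2_cases (polar (⇑Q) a b) with hab | hab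
      · have := R_comm_of_orth ha hb hab
        show _ * _ = _ * _
        rw [← map_mul, ← map_mul, this]
      · show _ * _ = _ * _
        rw [← map_mul, ← map_mul]
        apply (QuotientGroup.eq).2
        have hmem : R Q a * R Q b ∈ E Q := Subgroup.subset_closure ⟨a, b, ha, hb, hab, rfl⟩
        have : (R Q a * R Q b)⁻¹ * (R Q b * R Q a) = (R Q a * R Q b)⁻¹ * (R Q a * R Q b)⁻¹ := by
          rw [_root_.mul_inv_rev, R_inv ha, R_inv hb]
        rw [this]
        exact Subgroup.mul_mem _ (Subgroup.inv_mem _ hmem) (Subgroup.inv_mem _ hmem)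
    | one_left y _ => rw [map_one]; exact Commute.one_left _
    | one_right x _ => rw [map_one]; exact Commute.one_right _
    | mul_left x y z _ _ _ h1 h2 => rw [map_mul]; exact Commute.mul_left h1 h2
    | mul_right x y z _ _ _ h1 h2 => rw [map_mul]; exact Commute.mul_right h1 h2
    | inv_left x y _ _ h => rw [map_inv]; exact Commute.inv_left h
    | inv_right x y _ _ h => rw [map_inv]; exact Commute.inv_right h
  show commutator _ ≤ E Q
  rw [commutator_def, Subgroup.commutator_le]
  intro x _ y _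
  have h := key x y
  have h2 : QuotientGroup.mk' (E Q) ⁅x, y⁆ = 1 := by
    rw [map_commutatorElement]
    exact commutatorElement_eq_one_iff_commute.2 h
  exact (QuotientGroup.eq_one_iff _).1 h2

theorem Omega_eq_E (hQ : (QuadraticMap.polarBilin Q).Nondegenerate)
    (hcard : Fintype.card ι ≠ 4) : Cfsg.Omega (ZMod 2) ⇑Q = E Q :=
  le_antisymm (Omega_le_E Q hQ hcard) (E_le_Omega Q)

/-- every square of an isometry lies in `Ω` -/
theorem sq_mem_Omega (hQ : (QuadraticMap.polarBilin Q).Nondegenerate)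
    (hcard : Fintype.card ι ≠ 4) (g : ↥(Cfsg.isometryGroup (ZMod 2) ⇑Q)) :
    g * g ∈ Cfsg.Omega (ZMod 2) ⇑Q := by
  let A := Abelianization ↥(Cfsg.isometryGroup (ZMod 2) ⇑Q)
  let S2 : Subgroup A :=
    { carrier := {a | a * a = 1}
      one_mem' := by simp
      mul_mem' := by
        intro a b ha hb
        simp only [Set.mem_ofPred_eq] at ha hb ⊢
        rw [mul_mul_mul_comm, ha, hb, one_mul]
      inv_mem' := by
        intro a ha
        simp only [Set.mem_ofPred_eq] at ha ⊢
        rw [← _root_.mul_inv_rev, ha, inv_one] }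
  have hle : Subgroup.closure (reflSet Q) ≤ S2.comap Abelianization.of := by
    rw [Subgroup.closure_le]
    intro x hx
    obtain ⟨a, ha, rfl⟩ := reflSet_eq Q hx
    show Abelianization.of (R Q a) * Abelianization.of (R Q a) = 1
    rw [← map_mul, R_mul_self ha, map_one]
  rw [closure_reflSet Q hQ hcard] at hle
  have h1 : Abelianization.of g * Abelianization.of g = 1 := hle (Subgroup.mem_top g)
  rw [← map_mul] at h1
  have h2 : g * g ∈ (Abelianization.of (G := ↥(Cfsg.isometryGroup (ZMod 2) ⇑Q))).ker := h1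
  rwa [Abelianization.ker_of] at h2

end Cfsg.Agent.Helper89.H1O
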