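import Mathlib
import Cfsg.Agent.Lib.Helper89.H1O.Gen

/-!
# Crossed homomorphisms of `Ω` into the natural module over `𝔽₂`
-/

set_option autoImplicit false

namespace Cfsg.Agent.Helper89.H1O

open Matrix QuadraticMap
open scoped commutatorElement

set_option linter.unusedSectionVars false

variable {ι : Type} [Fintype ι] [DecidableEq ι] {Q : QuadraticForm (ZMod 2) (ι → ZMod 2)}

/-- `z² + z + 1 = 0` on vectors -/
def Quad (z : ↥(Cfsg.isometryGroup (ZMod 2) ⇑Q)) : Prop :=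
  ∀ v : ι → ZMod 2, act z (act z v) + act z v + v = 0

theorem Quad.sq {z : ↥(Cfsg.isometryGroup (ZMod 2) ⇑Q)} (hq : Quad z) (w : ι → ZMod 2) :
    act z (act z w) = w + act z w := by
  have h := hq w
  funext i
  have hi := congrFun h i
  simp only [Pi.add_apply, Pi.zero_apply] at hi ⊢
  grind

theorem Quad.inv_act {z : ↥(Cfsg.isometryGroup (ZMod 2) ⇑Q)} (hq : Quad z) (w : ι → ZMod 2) :
    act z⁻¹ w = w + act z w := by
  apply act_injective z
  rw [act_act_inv, act_add, hq.sq]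
  funext i
  simp only [Pi.add_apply]
  grind

theorem Quad.inj {z : ↥(Cfsg.isometryGroup (ZMod 2) ⇑Q)} (hq : Quad z) {w : ι → ZMod 2}
    (h : act z w = w) : w = 0 := by
  have h1 := hq w
  rw [h, h] at h1
  funext i
  have hi := congrFun h1 i
  simp only [Pi.add_apply, Pi.zero_apply] at hi ⊢
  grind

theorem Quad.inv {z : ↥(Cfsg.isometryGroup (ZMod 2) ⇑Q)} (hq : Quad z) : Quad z⁻¹ := by
  intro v
  rw [hq.inv_act, hq.inv_act, act_add, hq.sq]
  funext i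
  simp only [Pi.add_apply, Pi.zero_apply]
  grind

theorem Quad.B_left {z : ↥(Cfsg.isometryGroup (ZMod 2) ⇑Q)} (hq : Quad z) (v w : ι → ZMod 2) :
    polar (⇑Q) (act z v) w = polar (⇑Q) v w + polar (⇑Q) v (act z w) := by
  have h1 : polar (⇑Q) (act z v) w = polar (⇑Q) v (act z⁻¹ w) := by
    rw [← B_act z v (act z⁻¹ w), act_act_inv]
  rw [h1, hq.inv_act, polar_add_right]

theorem Quad.B_self_act {z : ↥(Cfsg.isometryGroup (ZMod 2) ⇑Q)} (hq : Quad z) {x : ι → ZMod 2}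
    (hx : Q x = 1) : polar (⇑Q) x (act z x) = 1 := by
  have h1 : Q (x + act z x) = 1 := by
    rw [← hq.sq, Q_act, Q_act, hx]
  rw [Q_add, Q_act, hx] at h1
  grind

theorem Quad.rot_comm {z : ↥(Cfsg.isometryGroup (ZMod 2) ⇑Q)} (hq : Quad z) {x : ι → ZMod 2}
    (hx : Q x = 1) : (R Q x * R Q (act z x)) * z = z * (R Q x * R Q (act z x)) := by
  have hzx : Q (act z x) = 1 := by rw [Q_act, hx]
  have h1 : z * (R Q x * R Q (act z x)) * z⁻¹ = R Q x * R Q (act z x) := by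
    have : z * (R Q x * R Q (act z x)) * z⁻¹ = (z * R Q x * z⁻¹) * (z * R Q (act z x) * z⁻¹) := by
      group
    rw [this, conj_R z hx, conj_R z hzx, hq.sq, ← rot_shift hx hzx (hq.B_self_act hx)]
  calc (R Q x * R Q (act z x)) * z = (z * (R Q x * R Q (act z x)) * z⁻¹) * z := by rw [h1]
    _ = z * (R Q x * R Q (act z x)) := by group

section Cocycle

variable (f : ↥(Cfsg.Omega (ZMod 2) ⇑Q) → (ι → ZMod 2))

/-- the crossed homomorphism condition -/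
def IsCoc : Prop :=
  ∀ g h : ↥(Cfsg.Omega (ZMod 2) ⇑Q),
    f (g * h) = f g + act (g : ↥(Cfsg.isometryGroup (ZMod 2) ⇑Q)) (f h)

variable {f}

theorem IsCoc.one (hf : IsCoc f) : f 1 = 0 := by
  have h := hf 1 1
  rw [mul_one, Subgroup.coe_one, act_one] at h
  exact left_eq_add.mp h

theorem IsCoc.inv (hf : IsCoc f) {g : ↥(Cfsg.Omega (ZMod 2) ⇑Q)} (hg : f g = 0) : f g⁻¹ = 0 := by
  have h := hf g g⁻¹
  rw [mul_inv_cancel, hf.one, hg, zero_add] at h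
  apply act_injective (g : ↥(Cfsg.isometryGroup (ZMod 2) ⇑Q))
  rw [← h, act_zero]

/-- the subgroup of `O` on which the crossed homomorphism vanishes -/
def Zs (hf : IsCoc f) : Subgroup ↥(Cfsg.isometryGroup (ZMod 2) ⇑Q) where
  carrier := {x | ∃ h : x ∈ Cfsg.Omega (ZMod 2) ⇑Q, f ⟨x, h⟩ = 0}
  one_mem' := ⟨Subgroup.one_mem _, hf.one⟩
  mul_mem' := by
    rintro x y ⟨hx, hfx⟩ ⟨hy, hfy⟩
    refine ⟨Subgroup.mul_mem _ hx hy, ?_⟩
    have h := hf ⟨x, hx⟩ ⟨y, hy⟩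
    rw [hfx, hfy, act_zero, add_zero] at h
    exact h
  inv_mem' := by
    rintro x ⟨hx, hfx⟩
    exact ⟨Subgroup.inv_mem _ hx, hf.inv hfx⟩

theorem mem_Zs (hf : IsCoc f) (x : ↥(Cfsg.isometryGroup (ZMod 2) ⇑Q)) :
    x ∈ Zs hf ↔ ∃ h : x ∈ Cfsg.Omega (ZMod 2) ⇑Q, f ⟨x, h⟩ = 0 := Iff.rfl

/-- elements commuting with a fixed-point-free element of `Zs` lie in `Zs` -/
theorem lemN (hf : IsCoc f) {z : ↥(Cfsg.isometryGroup (ZMod 2) ⇑Q)} (hz : z ∈ Zs hf)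
    (hinj : ∀ w, act z w = w → w = 0) {y : ↥(Cfsg.isometryGroup (ZMod 2) ⇑Q)}
    (hy : y ∈ Cfsg.Omega (ZMod 2) ⇑Q) (hc : y * z = z * y) : y ∈ Zs hf := by
  obtain ⟨hzΩ, hfz⟩ := hz
  refine ⟨hy, ?_⟩
  have h1 := hf ⟨y, hy⟩ ⟨z, hzΩ⟩
  have h2 := hf ⟨z, hzΩ⟩ ⟨y, hy⟩
  have h3 : (⟨y, hy⟩ : ↥(Cfsg.Omega (ZMod 2) ⇑Q)) * ⟨z, hzΩ⟩ = ⟨z, hzΩ⟩ * ⟨y, hy⟩ :=
    Subtype.ext hc
  rw [h3, h2, hfz, act_zero, add_zero, zero_add] at h1
  exact hinj _ h1

theorem caseA (hf : IsCoc f) {z : ↥(Cfsg.isometryGroup (ZMod 2) ⇑Q)} (hz : z ∈ Zs hf)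
    (hq : Quad z) {x y : ι → ZMod 2} (hx : Q x = 1) (hy : Q y = 1)
    (hxy : polar (⇑Q) x y = 1) (hA : polar (⇑Q) y (x + act z x) = 1) :
    R Q x * R Q y ∈ Zs hf := by
  have hyx : polar (⇑Q) y x = 1 := by rw [polar_comm, hxy]
  have hyzx : polar (⇑Q) y (act z x) = 0 := by
    rw [polar_add_right, hyx] at hA
    grind
  have hxzx : polar (⇑Q) x (act z x) = 1 := hq.B_self_act hx
  obtain ⟨u, hu⟩ : ∃ u, u = y + x + act z x := ⟨_, rfl⟩
  have hQu : Q u = 1 := by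
    have h1 : Q (x + act z x) = 1 := by rw [Q_add, Q_act, hx, hxzx]; decide
    rw [hu, add_assoc, Q_add, hy, h1, hA]; decide
  have hQzu : Q (act z u) = 1 := by rw [Q_act, hQu]
  have huzu : polar (⇑Q) u (act z u) = 1 := hq.B_self_act hQu
  -- the rotation `ρ_u` lies in `Zs`
  have hρΩ : R Q u * R Q (act z u) ∈ Cfsg.Omega (ZMod 2) ⇑Q := rot_mem_Omega hQu hQzu huzu
  have hρ : R Q u * R Q (act z u) ∈ Zs hf :=
    lemN hf hz (fun w hw => hq.inj hw) hρΩ (hq.rot_comm hQu)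
  -- the new fixed-point-free element
  obtain ⟨z', hz'⟩ : ∃ z', z' = z⁻¹ * (R Q u * R Q (act z u))⁻¹ := ⟨_, rfl⟩
  have hz'Z : z' ∈ Zs hf := by
    rw [hz']
    exact Subgroup.mul_mem _ (Subgroup.inv_mem _ hz) (Subgroup.inv_mem _ hρ)
  have hz'act : ∀ v, act z' v =
      v + act z v + polar (⇑Q) v u • act z u + polar (⇑Q) v (act z u) • u := by
    intro v
    rw [hz', _root_.mul_inv_rev, R_inv hQu, R_inv hQzu, act_mul, hq.inv_act, rot_act hQzu hQu,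
      huzu]
    simp only [act_add, act_smul, hq.sq]
    funext i
    simp only [Pi.add_apply, Pi.smul_apply, smul_eq_mul]
    grind
  have hzu_self : polar (⇑Q) (act z u) (act z u) = 0 := B_self _
  have hu_self : polar (⇑Q) u u = 0 := B_self _
  have hzuu : polar (⇑Q) (act z u) u = 1 := by rw [polar_comm, huzu]
  have hq' : Quad z' := by
    intro v
    rw [hz'act (act z' v), hz'act v]
    simp only [act_add, act_smul, hq.sq, polar_add_left, polar_add_right, polar_smul_left,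
      hq.B_left v u, hq.B_left v (act z u), hzu_self, hu_self, hzuu, huzu, smul_eq_mul]
    funext i
    simp only [Pi.add_apply, Pi.smul_apply, smul_eq_mul, Pi.zero_apply]
    grind
  have hz'x : act z' x = y := by
    have hzyx : polar (⇑Q) (act z y) x = 1 := by
      rw [hq.B_left, hyx, hyzx]; decide
    have hxzy : polar (⇑Q) x (act z y) = 1 := by rw [polar_comm, hzyx]
    have hx_self : polar (⇑Q) x x = 0 := B_self _
    rw [hz'act x, hu]
    simp only [act_add, hq.sq, polar_add_right, hxy, hxzx, hx_self, hxzy]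
    funext i
    simp only [Pi.add_apply, Pi.smul_apply, smul_eq_mul]
    grind
  have hfin := lemN hf hz'Z (fun w hw => hq'.inj hw)
    (rot_mem_Omega hx (by rw [Q_act, hx]) (hq'.B_self_act hx)) (hq'.rot_comm hx)
  rwa [hz'x] at hfin

theorem all_rot (hf : IsCoc f) {z : ↥(Cfsg.isometryGroup (ZMod 2) ⇑Q)} (hz : z ∈ Zs hf)
    (hq : Quad z) {x y : ι → ZMod 2} (hx : Q x = 1) (hy : Q y = 1)
    (hxy : polar (⇑Q) x y = 1) : R Q x * R Q y ∈ Zs hf := by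
  have hyx : polar (⇑Q) y x = 1 := by rw [polar_comm, hxy]
  rcases z2_cases (polar (⇑Q) y (x + act z x)) with h | h
  · apply caseA hf (Subgroup.inv_mem _ hz) hq.inv hx hy hxy
    rw [hq.inv_act]
    rw [polar_add_right, hyx] at h
    rw [polar_add_right, polar_add_right, hyx]
    grind
  · exact caseA hf hz hq hx hy hxy h

theorem Zs_top (hQ : (QuadraticMap.polarBilin Q).Nondegenerate) (hcard : Fintype.card ι ≠ 4)
    (hf : IsCoc f) {z : ↥(Cfsg.isometryGroup (ZMod 2) ⇑Q)} (hz : z ∈ Zs hf) (hq : Quad z)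
    (g : ↥(Cfsg.Omega (ZMod 2) ⇑Q)) : f g = 0 := by
  have h1 : (g : ↥(Cfsg.isometryGroup (ZMod 2) ⇑Q)) ∈ E Q := Omega_le_E Q hQ hcard g.2
  have h2 : E Q ≤ Zs hf := by
    unfold E
    rw [Subgroup.closure_le]
    rintro x ⟨a, b, ha, hb, hab, rfl⟩
    exact all_rot hf hz hq ha hb hab
  obtain ⟨_, h3⟩ := h2 h1
  exact h3

end Cocycle

/-- vanishing of `H¹(Ω, V)` given a fixed-point-free element of order three in `Ω` -/
theorem H1_vanish (hQ : (QuadraticMap.polarBilin Q).Nondegenerate) (hcard : Fintype.card ι ≠ 4)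
    (z0 : ↥(Cfsg.isometryGroup (ZMod 2) ⇑Q)) (hz0 : z0 ∈ Cfsg.Omega (ZMod 2) ⇑Q) (hq : Quad z0)
    (f : ↥(Cfsg.Omega (ZMod 2) ⇑Q) → (ι → ZMod 2)) (hf : IsCoc f) :
    ∃ v : ι → ZMod 2, ∀ g : ↥(Cfsg.Omega (ZMod 2) ⇑Q),
      f g = act (g : ↥(Cfsg.isometryGroup (ZMod 2) ⇑Q)) v - v := by
  obtain ⟨v0, hv0⟩ : ∃ v0, v0 = act z0 (f ⟨z0, hz0⟩) := ⟨_, rfl⟩
  refine ⟨v0, ?_⟩
  obtain ⟨f', hf'⟩ : ∃ f' : ↥(Cfsg.Omega (ZMod 2) ⇑Q) → (ι → ZMod 2),
      f' = fun g => f g - (act (g : ↥(Cfsg.isometryGroup (ZMod 2) ⇑Q)) v0 - v0) := ⟨_, rfl⟩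
  have hcoc : IsCoc f' := by
    intro g h
    rw [hf']
    simp only [Subgroup.coe_mul, act_mul, act_sub, hf g h]
    abel
  have hz : z0 ∈ Zs hcoc := by
    refine ⟨hz0, ?_⟩
    rw [hf']
    simp only
    rw [hv0, hq.sq]
    funext i
    simp only [Pi.add_apply, Pi.sub_apply, Pi.zero_apply]
    grind
  intro g
  have h := Zs_top hQ hcard hcoc hz hq g
  rw [hf'] at h
  simp only at h
  exact sub_eq_zero.mp h

end Cfsg.Agent.Helper89.H1O
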