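import Mathlib
import Cfsg.Agent.Lib.Helper89.H1O.Avg
import Cfsg.Agent.Lib.Helper59.HermO4

/-!
# `H¹(Ω₄⁻(2), V) = 0`
-/

set_option autoImplicit false
set_option linter.style.haveILetI false

namespace Cfsg.Agent.Helper89.H1O

open Matrix
open scoped commutatorElement

/-- the index type of the four-dimensional minus-type form -/
abbrev I4 := (Fin 1 ⊕ Fin 1) ⊕ Fin 2

/-- the four-dimensional elliptic form over `𝔽₂` -/
abbrev Q4 : (I4 → ZMod 2) → ZMod 2 := Cfsg.quadFormMinus 1 (ZMod 2) 1 1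

/-- coordinates -/
def e4 : I4 ≃ Fin 4 where
  toFun := Sum.elim (Sum.elim (fun _ => 0) (fun _ => 1)) (fun k => if k = 0 then 2 else 3)
  invFun := ![Sum.inl (Sum.inl 0), Sum.inl (Sum.inr 0), Sum.inr 0, Sum.inr 1]
  left_inv := by decide
  right_inv := by decide

/-- the form in coordinates -/
def q4 (w : Fin 4 → ZMod 2) : ZMod 2 := w 0 * w 1 + (w 2 ^ 2 + w 2 * w 3 + w 3 ^ 2)

theorem Q4_eq (v : I4 → ZMod 2) : Q4 v = q4 (v ∘ e4.symm) := by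
  unfold Q4 Cfsg.quadFormMinus q4
  simp [e4]

theorem vec4_eta (w : Fin 4 → ZMod 2) : w = ![w 0, w 1, w 2, w 3] := by
  funext i
  fin_cases i <;> rfl

/-- an isometry given by a `4 × 4` matrix in coordinates -/
def iso4 (M N : Matrix (Fin 4) (Fin 4) (ZMod 2)) (h1 : M * N = 1) (h2 : N * M = 1)
    (hiso : ∀ a b c d : ZMod 2, q4 (M *ᵥ ![a, b, c, d]) = q4 ![a, b, c, d]) :
    ↥(Cfsg.isometryGroup (ZMod 2) Q4) :=
  ⟨⟨M.submatrix e4 e4, N.submatrix e4 e4,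
    by rw [Matrix.submatrix_mul_equiv, h1, Matrix.submatrix_one_equiv],
    by rw [Matrix.submatrix_mul_equiv, h2, Matrix.submatrix_one_equiv]⟩, by
    intro v _
    show Q4 ((M.submatrix e4 e4) *ᵥ v) = Q4 v
    rw [Q4_eq, Q4_eq, Matrix.submatrix_mulVec_equiv]
    have : ((M *ᵥ (v ∘ ⇑e4.symm)) ∘ ⇑e4) ∘ ⇑e4.symm = M *ᵥ (v ∘ ⇑e4.symm) := by
      funext i; simp
    rw [this, vec4_eta (v ∘ ⇑e4.symm)]
    exact hiso _ _ _ _⟩

/-- the coordinate matrix of an isometry -/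
def ψ (g : ↥(Cfsg.isometryGroup (ZMod 2) Q4)) : Matrix (Fin 4) (Fin 4) (ZMod 2) :=
  ((g : GL I4 (ZMod 2)) : Matrix I4 I4 (ZMod 2)).submatrix e4.symm e4.symm

theorem ψ_mul (g h : ↥(Cfsg.isometryGroup (ZMod 2) Q4)) : ψ (g * h) = ψ g * ψ h := by
  unfold ψ
  rw [Matrix.submatrix_mul_equiv]
  rfl

theorem ψ_one : ψ 1 = 1 := by
  unfold ψ
  simp

theorem ψ_inj {g h : ↥(Cfsg.isometryGroup (ZMod 2) Q4)} (H : ψ g = ψ h) : g = h := by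
  apply Subtype.ext
  apply Units.ext
  unfold ψ at H
  have := congrArg (fun M => M.submatrix e4 e4) H
  simpa using this

theorem ψ_iso4 (M N : Matrix (Fin 4) (Fin 4) (ZMod 2)) (h1 : M * N = 1) (h2 : N * M = 1)
    (hiso : ∀ a b c d : ZMod 2, q4 (M *ᵥ ![a, b, c, d]) = q4 ![a, b, c, d]) :
    ψ (iso4 M N h1 h2 hiso) = M := by
  unfold ψ iso4
  simp

theorem mulVec_eq_ψ (g : ↥(Cfsg.isometryGroup (ZMod 2) Q4)) (v : I4 → ZMod 2) :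
    (((g : GL I4 (ZMod 2)) : Matrix I4 I4 (ZMod 2)) *ᵥ v) ∘ e4.symm = ψ g *ᵥ (v ∘ e4.symm) := by
  unfold ψ
  rw [Matrix.submatrix_mulVec_equiv]
  have : (v ∘ ⇑e4.symm) ∘ ⇑e4.symm.symm = v := by
    funext i; simp
  rw [this]

/-! ### The explicit elements -/

/-- an involution of `Ω₄⁻(2)` -/
def A0 : Matrix (Fin 4) (Fin 4) (ZMod 2) := !![1, 0, 0, 0; 1, 1, 0, 1; 1, 0, 1, 0; 0, 0, 0, 1]

/-- an involution of `Ω₄⁻(2)` -/
def B0 : Matrix (Fin 4) (Fin 4) (ZMod 2) := !![1, 0, 0, 0; 1, 1, 1, 0; 0, 0, 1, 0; 1, 0, 0, 1]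

/-- an element of order three -/
def H0 : Matrix (Fin 4) (Fin 4) (ZMod 2) := !![1, 0, 0, 0; 0, 1, 0, 0; 0, 0, 0, 1; 0, 0, 1, 1]

/-- its inverse -/
def H0' : Matrix (Fin 4) (Fin 4) (ZMod 2) := !![1, 0, 0, 0; 0, 1, 0, 0; 0, 0, 1, 1; 0, 0, 1, 0]

/-- the isometry `a` -/
def a4 : ↥(Cfsg.isometryGroup (ZMod 2) Q4) :=
  iso4 A0 A0 (by decide) (by decide) (by decide)

/-- the isometry `b` -/
def b4 : ↥(Cfsg.isometryGroup (ZMod 2) Q4) :=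
  iso4 B0 B0 (by decide) (by decide) (by decide)

/-- the isometry `h` -/
def h4 : ↥(Cfsg.isometryGroup (ZMod 2) Q4) :=
  iso4 H0 H0' (by decide) (by decide) (by decide)

theorem ψ_a4 : ψ a4 = A0 := ψ_iso4 _ _ _ _ _
theorem ψ_b4 : ψ b4 = B0 := ψ_iso4 _ _ _ _ _
theorem ψ_h4 : ψ h4 = H0 := ψ_iso4 _ _ _ _ _

theorem ψ_h4_inv : ψ h4⁻¹ = H0' := by
  unfold ψ h4 iso4
  simp

theorem a4_sq : a4 * a4 = 1 := by
  apply ψ_inj
  rw [ψ_mul, ψ_one, ψ_a4]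
  decide

theorem b4_sq : b4 * b4 = 1 := by
  apply ψ_inj
  rw [ψ_mul, ψ_one, ψ_b4]
  decide

theorem b4_a4 : b4 * a4 = a4 * b4 := by
  apply ψ_inj
  rw [ψ_mul, ψ_mul, ψ_a4, ψ_b4]
  decide

theorem a4_eq : a4 = ⁅b4, h4⁆ := by
  apply ψ_inj
  rw [commutatorElement_def, inv_eq_of_mul_eq_one_right b4_sq, ψ_mul, ψ_mul, ψ_mul, ψ_a4, ψ_b4,
    ψ_h4, ψ_h4_inv]
  decide

theorem b4_eq : b4 = ⁅a4, h4⁻¹⁆ := by
  apply ψ_inj
  rw [commutatorElement_def, inv_eq_of_mul_eq_one_right a4_sq, inv_inv, ψ_mul, ψ_mul, ψ_mul,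
    ψ_a4, ψ_b4, ψ_h4, ψ_h4_inv]
  decide

theorem a4_mem : a4 ∈ Cfsg.Omega (ZMod 2) Q4 := by
  rw [a4_eq]
  exact Subgroup.commutator_mem_commutator (Subgroup.mem_top _) (Subgroup.mem_top _)

theorem b4_mem : b4 ∈ Cfsg.Omega (ZMod 2) Q4 := by
  rw [b4_eq]
  exact Subgroup.commutator_mem_commutator (Subgroup.mem_top _) (Subgroup.mem_top _)

theorem a4_ne_one : a4 ≠ 1 := by
  intro h
  have := congrArg ψ h
  rw [ψ_a4, ψ_one] at this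
  revert this
  decide

theorem b4_ne_one : b4 ≠ 1 := by
  intro h
  have := congrArg ψ h
  rw [ψ_b4, ψ_one] at this
  revert this
  decide

theorem a4_ne_b4 : a4 ≠ b4 := by
  intro h
  have := congrArg ψ h
  rw [ψ_a4, ψ_b4] at this
  revert this
  decide

set_option synthInstance.maxSize 2000 in
set_option synthInstance.maxHeartbeats 400000 in
set_option maxHeartbeats 1000000 in
/-- the local cohomology check on the four-group -/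
theorem k4check : ∀ a1 a2 a3 a4 b1 b2 b3 b4 : ZMod 2,
    ![a1, a2, a3, a4] + A0 *ᵥ ![a1, a2, a3, a4] = 0 →
    ![b1, b2, b3, b4] + B0 *ᵥ ![b1, b2, b3, b4] = 0 →
    ![a1, a2, a3, a4] + A0 *ᵥ ![b1, b2, b3, b4] = ![b1, b2, b3, b4] + B0 *ᵥ ![a1, a2, a3, a4] →
    ∃ v1 v2 v3 v4 : ZMod 2, ![a1, a2, a3, a4] = A0 *ᵥ ![v1, v2, v3, v4] - ![v1, v2, v3, v4] ∧
      ![b1, b2, b3, b4] = B0 *ᵥ ![v1, v2, v3, v4] - ![v1, v2, v3, v4] := by
  decide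

end Cfsg.Agent.Helper89.H1O
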