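import Mathlib
import Cfsg.Agent.Lib.Helper89.H1O.Four

/-!
# `H¹(Ω₄⁻(2), V) = 0`: assembly
-/

set_option autoImplicit false
set_option linter.style.haveILetI false

namespace Cfsg.Agent.Helper89.H1O

open Matrix
open scoped commutatorElement

open Cfsg.Agent.Helper59.HermO4 in
theorem card_Omega4 : Nat.card ↥(Cfsg.Omega (ZMod 2) Q4) = 60 ∨
    Nat.card ↥(Cfsg.Omega (ZMod 2) Q4) = 30 := by
  have hab' : Aniso (1 : ZMod 2) 1 := by
    unfold Aniso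
    decide
  haveI : Fact (∀ r : ZMod 2, r ^ 2 ≠ -1 + 1 * r) := ⟨fact_of_aniso 1 1 hab'⟩
  have hs : StarFixed (ZMod 2) 1 1 := starFixed_of_finite
  letI := fintypeL (F := ZMod 2) (a := 1) (b := 1)
  have h1 := card_O4_eq (F := ZMod 2) (a := 1) (b := 1) hab'
  have hc : Fintype.card (ZMod 2) = 2 := ZMod.card 2
  have h2 := Cfsg.Agent.Helper5.card_SL2 (F := L (ZMod 2) 1 1) (q := 2 ^ 2) (card_L hc)
  have h3 := index_range hab' hs
  have h4 := Subgroup.card_mul_index (toO hs).range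
  have h5 : Cfsg.Omega (ZMod 2) Q4 = (toO hs).range := omega_eq_range hab' hs
  rw [h5]
  rw [h1, h2, h3] at h4
  have h6 : 2 * (2 ^ 2 * ((2 ^ 2) ^ 2 - 1)) = 120 := by norm_num
  rw [h6] at h4
  rcases card_ker hs with h | h
  · rw [h] at h4
    left
    exact Nat.eq_of_mul_eq_mul_right (by norm_num : 0 < 2 * 1)
      (h4.trans (by norm_num : (120 : ℕ) = 60 * (2 * 1)))
  · rw [h] at h4
    right
    exact Nat.eq_of_mul_eq_mul_right (by norm_num : 0 < 2 * 2)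
      (h4.trans (by norm_num : (120 : ℕ) = 30 * (2 * 2)))

/-- `a` as an element of `Ω` -/
def aΩ : ↥(Cfsg.Omega (ZMod 2) Q4) := ⟨a4, a4_mem⟩

/-- `b` as an element of `Ω` -/
def bΩ : ↥(Cfsg.Omega (ZMod 2) Q4) := ⟨b4, b4_mem⟩

theorem aΩ_sq : aΩ * aΩ = 1 := Subtype.ext a4_sq
theorem bΩ_sq : bΩ * bΩ = 1 := Subtype.ext b4_sq
theorem bΩ_aΩ : bΩ * aΩ = aΩ * bΩ := Subtype.ext b4_a4

/-- the explicit Sylow `2`-subgroup -/
def P4 : Subgroup ↥(Cfsg.Omega (ZMod 2) Q4) := kleinSub aΩ bΩ aΩ_sq bΩ_sq bΩ_aΩ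

theorem card_P4 : Nat.card P4 = 4 := by
  apply card_kleinSub
  · intro h
    exact a4_ne_one (congrArg Subtype.val h)
  · intro h
    exact b4_ne_one (congrArg Subtype.val h)
  · intro h
    exact a4_ne_b4 (congrArg Subtype.val h)

theorem P4_index_odd : Odd P4.index := by
  have h := Subgroup.card_mul_index P4
  rw [card_P4] at h
  rcases card_Omega4 with h1 | h1
  · rw [h1] at h
    have : P4.index = 15 := by omega
    rw [this]
    decide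
  · rw [h1] at h
    omega

/-- the action of `Ω` on vectors -/
def mv (g : ↥(Cfsg.Omega (ZMod 2) Q4)) (w : I4 → ZMod 2) : I4 → ZMod 2 :=
  (((g : ↥(Cfsg.isometryGroup (ZMod 2) Q4)) : GL I4 (ZMod 2)) : Matrix I4 I4 (ZMod 2)) *ᵥ w

theorem mv_mul (g h : ↥(Cfsg.Omega (ZMod 2) Q4)) (w : I4 → ZMod 2) :
    mv (g * h) w = mv g (mv h w) := by
  simp [mv, Matrix.mulVec_mulVec]

theorem mv_one (w : I4 → ZMod 2) : mv 1 w = w := by
  simp [mv]

theorem mv_add (g : ↥(Cfsg.Omega (ZMod 2) Q4)) (v w : I4 → ZMod 2) :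
    mv g (v + w) = mv g v + mv g w := Matrix.mulVec_add _ _ _

theorem mv_sub (g : ↥(Cfsg.Omega (ZMod 2) Q4)) (v w : I4 → ZMod 2) :
    mv g (v - w) = mv g v - mv g w := Matrix.mulVec_sub _ _ _

theorem φ_mv_a (w : I4 → ZMod 2) : (mv aΩ w) ∘ e4.symm = A0 *ᵥ (w ∘ e4.symm) := by
  unfold mv
  rw [mulVec_eq_ψ]
  show ψ a4 *ᵥ _ = _
  rw [ψ_a4]

theorem φ_mv_b (w : I4 → ZMod 2) : (mv bΩ w) ∘ e4.symm = B0 *ᵥ (w ∘ e4.symm) := by
  unfold mv
  rw [mulVec_eq_ψ]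
  show ψ b4 *ᵥ _ = _
  rw [ψ_b4]

theorem φ_inj {v w : I4 → ZMod 2} (h : v ∘ e4.symm = w ∘ e4.symm) : v = w := by
  funext i
  have := congrFun h (e4 i)
  simpa using this

theorem local_principal (f : ↥(Cfsg.Omega (ZMod 2) Q4) → (I4 → ZMod 2))
    (hf : ∀ g h, f (g * h) = f g + mv g (f h)) :
    ∃ v : I4 → ZMod 2, ∀ p ∈ P4, f p = mv p v - v := by
  have hf1 : f 1 = 0 := by
    have h := hf 1 1
    rw [mul_one, mv_one] at h
    exact left_eq_add.mp h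
  have ha : f aΩ + mv aΩ (f aΩ) = 0 := by
    rw [← hf, aΩ_sq, hf1]
  have hb : f bΩ + mv bΩ (f bΩ) = 0 := by
    rw [← hf, bΩ_sq, hf1]
  have hab : f aΩ + mv aΩ (f bΩ) = f bΩ + mv bΩ (f aΩ) := by
    rw [← hf, ← hf, bΩ_aΩ]
  have ha' := congrArg (fun w => w ∘ e4.symm) ha
  have hb' := congrArg (fun w => w ∘ e4.symm) hb
  have hab' := congrArg (fun w => w ∘ e4.symm) hab
  change (f aΩ) ∘ e4.symm + (mv aΩ (f aΩ)) ∘ e4.symm = 0 at ha'
  change (f bΩ) ∘ e4.symm + (mv bΩ (f bΩ)) ∘ e4.symm = 0 at hb'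
  change (f aΩ) ∘ e4.symm + (mv aΩ (f bΩ)) ∘ e4.symm =
    (f bΩ) ∘ e4.symm + (mv bΩ (f aΩ)) ∘ e4.symm at hab'
  rw [φ_mv_a] at ha' hab'
  rw [φ_mv_b] at hb' hab'
  rw [vec4_eta ((f aΩ) ∘ e4.symm)] at ha' hab'
  rw [vec4_eta ((f bΩ) ∘ e4.symm)] at hb' hab'
  obtain ⟨v1, v2, v3, v4, hva, hvb⟩ := k4check _ _ _ _ _ _ _ _ ha' hb' hab'
  rw [← vec4_eta] at hva hvb
  obtain ⟨v, hv⟩ : ∃ v : I4 → ZMod 2, v ∘ e4.symm = ![v1, v2, v3, v4] :=
    ⟨![v1, v2, v3, v4] ∘ e4, by funext i; simp⟩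
  have hfa : f aΩ = mv aΩ v - v := by
    apply φ_inj
    change _ = (mv aΩ v) ∘ e4.symm - v ∘ e4.symm
    rw [φ_mv_a, hv, hva]
  have hfb : f bΩ = mv bΩ v - v := by
    apply φ_inj
    change _ = (mv bΩ v) ∘ e4.symm - v ∘ e4.symm
    rw [φ_mv_b, hv, hvb]
  refine ⟨v, ?_⟩
  intro p hp
  rcases hp with rfl | rfl | rfl | rfl
  · rw [hf1, mv_one, sub_self]
  · exact hfa
  · exact hfb
  · rw [hf, hfa, hfb, mv_mul, mv_sub]
    abel

/-- vanishing of `H¹(Ω₄⁻(2), V)` -/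
theorem H1_minus4 (f : ↥(Cfsg.Omega (ZMod 2) Q4) → (I4 → ZMod 2))
    (hf : ∀ g h, f (g * h) = f g + mv g (f h)) :
    ∃ v : I4 → ZMod 2, ∀ g, f g = mv g v - v := by
  obtain ⟨v, hv⟩ := local_principal f hf
  haveI : Finite ↥(Cfsg.Omega (ZMod 2) Q4) := by
    apply Nat.finite_of_card_ne_zero
    rcases card_Omega4 with h | h <;> rw [h] <;> norm_num
  have hV : ∀ w : I4 → ZMod 2, w + w = 0 := by
    intro w
    funext i
    exact CharTwo.add_self_eq_zero (w i)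
  obtain ⟨w, hw⟩ := avg hV mv mv_add (fun g => f g - (mv g v - v))
    (by
      intro g h
      simp only [hf g h, mv_mul, mv_sub]
      abel)
    P4 P4_index_odd (by
      intro p hp
      rw [hv p hp, sub_self])
  refine ⟨v + w, ?_⟩
  intro g
  have h := hw g
  rw [mv_add]
  rw [sub_eq_iff_eq_add] at h
  rw [h]
  abel

end Cfsg.Agent.Helper89.H1O
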