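import Mathlib
import Cfsg.Agent.Lib.Helper89.H1O.Coc
import Cfsg.Agent.Lib.Helper43.OrthMinus
import Cfsg.Agent.Lib.Helper43.OrthPlus

/-!
# `H¹(Ω, V) = 0` for `Ω₆⁻(2)` and `Ω₈⁺(2)`
-/

set_option autoImplicit false

namespace Cfsg.Agent.Helper89.H1O

open Matrix QuadraticMap
open scoped commutatorElement

set_option linter.unusedSectionVars false

variable {ι : Type} [Fintype ι] [DecidableEq ι]

theorem cube_of_quad {M : Matrix ι ι (ZMod 2)} (hM : M * M + M + 1 = 0) : M * (M * M) = 1 := by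
  have h2 : M * M = -M - 1 := by
    rw [← sub_eq_zero, ← hM]; abel
  calc M * (M * M) = M * (-M - 1) := by rw [h2]
    _ = -(M * M) - M := by rw [mul_sub, mul_neg, mul_one]
    _ = -(-M - 1) - M := by rw [h2]
    _ = 1 := by abel

theorem cube_of_quad' {M : Matrix ι ι (ZMod 2)} (hM : M * M + M + 1 = 0) : (M * M) * M = 1 := by
  rw [mul_assoc]; exact cube_of_quad hM

/-- the general vanishing theorem, in the form of the statement -/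
theorem H1_vanish_fun (Q : QuadraticForm (ZMod 2) (ι → ZMod 2)) (q : (ι → ZMod 2) → ZMod 2)
    (hQq : ⇑Q = q) (hQ : (QuadraticMap.polarBilin Q).Nondegenerate) (hcard : Fintype.card ι ≠ 4)
    (M : Matrix ι ι (ZMod 2)) (hM : M * M + M + 1 = 0) (hiso : ∀ v, q (M *ᵥ v) = q v) :
    ∀ f : ↥(Cfsg.Omega (ZMod 2) q) → (ι → ZMod 2),
      (∀ g h : ↥(Cfsg.Omega (ZMod 2) q), f (g * h) = f g +
        Matrix.mulVec (((g : ↥(Cfsg.isometryGroup (ZMod 2) q)) : GL ι (ZMod 2)) :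
          Matrix ι ι (ZMod 2)) (f h)) →
      ∃ v : ι → ZMod 2, ∀ g : ↥(Cfsg.Omega (ZMod 2) q), f g =
        Matrix.mulVec (((g : ↥(Cfsg.isometryGroup (ZMod 2) q)) : GL ι (ZMod 2)) :
          Matrix ι ι (ZMod 2)) v - v := by
  subst hQq
  intro f hf
  obtain ⟨z0, hz0⟩ : ∃ z0 : ↥(Cfsg.isometryGroup (ZMod 2) ⇑Q),
      ((z0 : GL ι (ZMod 2)) : Matrix ι ι (ZMod 2)) = M :=
    ⟨⟨⟨M, M * M, cube_of_quad hM, cube_of_quad' hM⟩, fun v _ => hiso v⟩, rfl⟩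
  have hq : Quad z0 := by
    intro v
    unfold act
    rw [hz0, Matrix.mulVec_mulVec]
    have h0 : (M * M + M + 1) *ᵥ v = 0 := by rw [hM, Matrix.zero_mulVec]
    rw [Matrix.add_mulVec, Matrix.add_mulVec, Matrix.one_mulVec] at h0
    exact h0
  have h3 : z0 * z0 * z0 = 1 := by
    apply Subtype.ext
    apply Units.ext
    simp only [Subgroup.coe_mul, Units.val_mul, hz0, Subgroup.coe_one, Units.val_one]
    exact cube_of_quad' hM
  have hmem : z0 ∈ Cfsg.Omega (ZMod 2) ⇑Q := by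
    have h4 : z0 = (z0 * z0) * (z0 * z0) := by
      calc z0 = (z0 * z0 * z0) * z0 := by rw [h3, one_mul]
        _ = (z0 * z0) * (z0 * z0) := by group
    rw [h4]
    exact sq_mem_Omega Q hQ hcard (z0 * z0)
  exact H1_vanish hQ hcard z0 hmem hq f hf

/-! ### `Ω₈⁺(2)` -/

/-- block of the element of order three -/
def A4 : Matrix (Fin 4) (Fin 4) (ZMod 2) := !![0, 1, 0, 0; 1, 1, 0, 0; 0, 0, 0, 1; 0, 0, 1, 1]

/-- block of the element of order three -/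
def D4 : Matrix (Fin 4) (Fin 4) (ZMod 2) := !![1, 1, 0, 0; 1, 0, 0, 0; 0, 0, 1, 1; 0, 0, 1, 0]

/-- the element of order three in `O₈⁺(2)` -/
def M8 : Matrix (Fin 4 ⊕ Fin 4) (Fin 4 ⊕ Fin 4) (ZMod 2) := Matrix.fromBlocks A4 0 0 D4

theorem M8_quad : M8 * M8 + M8 + 1 = 0 := by
  unfold M8
  rw [Matrix.fromBlocks_multiply, ← Matrix.fromBlocks_one, Matrix.fromBlocks_add,
    Matrix.fromBlocks_add]
  have hA : A4 * A4 + 0 * 0 + A4 + 1 = 0 := by decide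
  have hD : 0 * 0 + D4 * D4 + D4 + 1 = 0 := by decide
  rw [hA, hD]
  simp

theorem M8_iso (v : Fin 4 ⊕ Fin 4 → ZMod 2) :
    Cfsg.quadFormPlus 4 (ZMod 2) (M8 *ᵥ v) = Cfsg.quadFormPlus 4 (ZMod 2) v := by
  unfold Cfsg.quadFormPlus M8
  rw [Matrix.fromBlocks_mulVec]
  simp only [Sum.elim_inl, Sum.elim_inr, Matrix.zero_mulVec, add_zero, zero_add]
  simp only [A4, D4, Matrix.mulVec, dotProduct, Fin.sum_univ_four, Matrix.of_apply,
    Matrix.cons_val', Matrix.cons_val_zero, Matrix.cons_val_one, Function.comp]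
  simp
  grind

theorem H1_plus8 : ∀ f : ↥(Cfsg.Omega (ZMod 2) (Cfsg.quadFormPlus 4 (ZMod 2))) →
      (Fin 4 ⊕ Fin 4 → ZMod 2),
      (∀ g h : ↥(Cfsg.Omega (ZMod 2) (Cfsg.quadFormPlus 4 (ZMod 2))), f (g * h) = f g +
        Matrix.mulVec (((g : ↥(Cfsg.isometryGroup (ZMod 2) (Cfsg.quadFormPlus 4 (ZMod 2)))) :
          GL (Fin 4 ⊕ Fin 4) (ZMod 2)) : Matrix (Fin 4 ⊕ Fin 4) (Fin 4 ⊕ Fin 4) (ZMod 2)) (f h)) →
      ∃ v : Fin 4 ⊕ Fin 4 → ZMod 2,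
        ∀ g : ↥(Cfsg.Omega (ZMod 2) (Cfsg.quadFormPlus 4 (ZMod 2))), f g =
          Matrix.mulVec (((g : ↥(Cfsg.isometryGroup (ZMod 2) (Cfsg.quadFormPlus 4 (ZMod 2)))) :
            GL (Fin 4 ⊕ Fin 4) (ZMod 2)) : Matrix (Fin 4 ⊕ Fin 4) (Fin 4 ⊕ Fin 4) (ZMod 2)) v - v :=
  H1_vanish_fun (Cfsg.Agent.Helper43.stdPlus (ZMod 2) 4) _
    (Cfsg.Agent.Helper43.coe_stdPlus (ZMod 2) 4)
    (Cfsg.Agent.Helper43.stdPlus_nondegenerate (ZMod 2) 4) (by simp) M8 M8_quad M8_iso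

/-! ### `Ω₆⁻(2)` -/

/-- block of the element of order three -/
def J2 : Matrix (Fin 2) (Fin 2) (ZMod 2) := !![0, 1; 1, 1]

/-- block of the element of order three -/
def J2' : Matrix (Fin 2) (Fin 2) (ZMod 2) := !![1, 1; 1, 0]

/-- the element of order three in `O₆⁻(2)` -/
def M6 : Matrix ((Fin 2 ⊕ Fin 2) ⊕ Fin 2) ((Fin 2 ⊕ Fin 2) ⊕ Fin 2) (ZMod 2) :=
  Matrix.fromBlocks (Matrix.fromBlocks J2 0 0 J2') 0 0 J2

theorem M6_quad : M6 * M6 + M6 + 1 = 0 := by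
  unfold M6
  rw [Matrix.fromBlocks_multiply, ← Matrix.fromBlocks_one, Matrix.fromBlocks_add,
    Matrix.fromBlocks_add]
  have hJ : J2 * J2 + J2 + 1 = 0 := by decide
  have hJ' : J2' * J2' + J2' + 1 = 0 := by decide
  have hA : Matrix.fromBlocks J2 0 0 J2' * Matrix.fromBlocks J2 0 0 J2' + 0 * 0 +
      Matrix.fromBlocks J2 0 0 J2' + 1 = 0 := by
    rw [Matrix.fromBlocks_multiply, ← Matrix.fromBlocks_one]
    simp only [mul_zero, zero_mul, add_zero, zero_add, Matrix.fromBlocks_add, hJ, hJ']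
    simp
  simp only [Matrix.mul_zero, Matrix.zero_mul, add_zero, zero_add] at hA ⊢
  rw [hA, hJ]
  simp

theorem M6_iso (v : (Fin 2 ⊕ Fin 2) ⊕ Fin 2 → ZMod 2) :
    Cfsg.quadFormMinus 2 (ZMod 2) 1 1 (M6 *ᵥ v) = Cfsg.quadFormMinus 2 (ZMod 2) 1 1 v := by
  unfold Cfsg.quadFormMinus M6
  rw [Matrix.fromBlocks_mulVec]
  simp only [Sum.elim_inl, Sum.elim_inr, Matrix.zero_mulVec, add_zero, zero_add,
    Matrix.fromBlocks_mulVec]
  simp only [J2, J2', Matrix.mulVec, dotProduct, Fin.sum_univ_two, Matrix.of_apply,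
    Matrix.cons_val', Matrix.cons_val_zero, Matrix.cons_val_one, Function.comp]
  simp
  generalize v (Sum.inl (Sum.inl 0)) = x0
  generalize v (Sum.inl (Sum.inl 1)) = x1
  generalize v (Sum.inl (Sum.inr 0)) = y0
  generalize v (Sum.inl (Sum.inr 1)) = y1
  generalize v (Sum.inr 0) = s
  generalize v (Sum.inr 1) = t
  revert x0 x1 y0 y1 s t
  decide

theorem aniso11 : Cfsg.Agent.Helper43.AnisoPair (1 : ZMod 2) 1 := by
  unfold Cfsg.Agent.Helper43.AnisoPair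
  decide

theorem H1_minus6 : ∀ f : ↥(Cfsg.Omega (ZMod 2) (Cfsg.quadFormMinus 2 (ZMod 2) 1 1)) →
      ((Fin 2 ⊕ Fin 2) ⊕ Fin 2 → ZMod 2),
      (∀ g h : ↥(Cfsg.Omega (ZMod 2) (Cfsg.quadFormMinus 2 (ZMod 2) 1 1)), f (g * h) = f g +
        Matrix.mulVec (((g : ↥(Cfsg.isometryGroup (ZMod 2) (Cfsg.quadFormMinus 2 (ZMod 2) 1 1))) :
          GL ((Fin 2 ⊕ Fin 2) ⊕ Fin 2) (ZMod 2)) :
            Matrix ((Fin 2 ⊕ Fin 2) ⊕ Fin 2) ((Fin 2 ⊕ Fin 2) ⊕ Fin 2) (ZMod 2)) (f h)) →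
      ∃ v : (Fin 2 ⊕ Fin 2) ⊕ Fin 2 → ZMod 2,
        ∀ g : ↥(Cfsg.Omega (ZMod 2) (Cfsg.quadFormMinus 2 (ZMod 2) 1 1)), f g =
          Matrix.mulVec (((g : ↥(Cfsg.isometryGroup (ZMod 2) (Cfsg.quadFormMinus 2 (ZMod 2) 1 1))) :
            GL ((Fin 2 ⊕ Fin 2) ⊕ Fin 2) (ZMod 2)) :
              Matrix ((Fin 2 ⊕ Fin 2) ⊕ Fin 2) ((Fin 2 ⊕ Fin 2) ⊕ Fin 2) (ZMod 2)) v - v :=
  H1_vanish_fun (Cfsg.Agent.Helper43.stdMinus (ZMod 2) 2 1 1) _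
    (Cfsg.Agent.Helper43.coe_stdMinus (ZMod 2) 2 1 1)
    (Cfsg.Agent.Helper43.stdMinus_nondegenerate 2 aniso11) (by simp) M6 M6_quad M6_iso

end Cfsg.Agent.Helper89.H1O
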